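import Groth.Agent.LocCohLib.Delta
import Mathlib

/-!
An effaceable delta functor extending a left exact functor computes its right derived functors.
-/

set_option autoImplicit false
set_option backward.isDefEq.respectTransparency false

universe v v' u u'

open CategoryTheory CategoryTheory.Limits HomologicalComplex

namespace Groth.Agent.CosimpLimLib

variable {C : Type u} [Category.{v} C] [Abelian C] [EnoughInjectives C]
  {D : Type u'} [Category.{v'} D] [Abelian D]

omit [EnoughInjectives C] in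
theorem shortExact_cycles (K : CochainComplex C ℕ) (k : ℕ) (hK : K.ExactAt (k + 1)) :
    ∃ (w : K.iCycles k ≫ K.toCycles k (k + 1) = 0), (ShortComplex.mk _ _ w).ShortExact := by
  have hw : K.iCycles k ≫ K.toCycles k (k + 1) = 0 := by
    rw [← cancel_mono (K.iCycles (k + 1))]
    simp
  refine ⟨hw, { exact := ?_, mono_f := inferInstanceAs (Mono (K.iCycles _)), epi_g := ?_ }⟩
  · refine ShortComplex.exact_of_f_is_kernel _ ?_
    refine isKernelOfComp (K.iCycles (k + 1)) _ (K.cyclesIsKernel k (k + 1) (by simp)) hw ?_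
    exact K.toCycles_i _ _
  · exact Preadditive.epi_of_isZero_cokernel' _ (K.homologyIsCokernel k (k + 1) (by simp))
      ((exactAt_iff_isZero_homology _ _).1 hK)

/-- The comparison. -/
theorem nonempty_rightDerived_iso (T : C ⥤ D) [T.Additive] [PreservesFiniteLimits T]
    (X : LocCohLib.DeltaFun C D) (hX : X.Effaceable) (e : X.F 0 ≅ T) (F : C) :
    ∀ n : ℕ, Nonempty ((T.rightDerived n).obj F ≅ (X.F n).obj F)
  | 0 => ⟨(T.rightDerivedZeroIsoSelf).app F ≪≫ (e.app F).symm⟩
  | n + 1 => by
    let R := injectiveResolution F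
    let K := R.cocomplex
    have hex : ∀ k, K.ExactAt (k + 1) := fun k => R.cocomplex_exactAt_succ k
    have hz : ∀ k i, IsZero ((X.F (i + 1)).obj (K.X k)) := fun k i => hX _ (R.injective k) i
    have hdim : ∀ (m k : ℕ), Nonempty ((X.F (m + 1)).obj (K.cycles k) ≅ (X.F 1).obj (K.cycles (k + m))) := by
      intro m
      induction m with
      | zero => exact fun k => ⟨Iso.refl _⟩
      | succ m ih =>
        intro k
        obtain ⟨w, hS⟩ := shortExact_cycles K k (hex k)
        obtain ⟨e'⟩ := ih (k + 1)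
        haveI : IsIso (X.δ hS (m + 1)) := X.isIso_δ hS (m + 1) (hz k m) (hz k (m + 1))
        exact ⟨(asIso (X.δ hS (m + 1))).symm ≪≫ e' ≪≫ eqToIso (by
          rw [show k + 1 + m = k + (m + 1) from by omega])⟩
    have h0 : K.cycles 0 ≅ F :=
      ((R.exact₀).fIsKernel.conePointUniqueUpToIso (K.cyclesIsKernel 0 1 (by simp))).symm
    obtain ⟨w, hS⟩ := shortExact_cycles K n (hex n)
    have e1 : (X.F 1).obj (K.cycles n) ≅ cokernel ((X.F 0).map (K.toCycles n (n + 1))) := by
      haveI : Epi (X.δ hS 0) := X.epi_δ hS 0 (hz n 0)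
      exact ((X.exact₃ hS 0).gIsCokernel).coconePointUniqueUpToIso (colimit.isColimit _)
    have e2 : cokernel ((X.F 0).map (K.toCycles n (n + 1))) ≅ cokernel (T.map (K.toCycles n (n + 1))) :=
      cokernel.mapIso _ _ (e.app _) (e.app _) (e.hom.naturality _)
    let L := (T.mapHomologicalComplex (ComplexShape.up ℕ)).obj K
    let κ : T.obj (K.cycles (n + 1)) ≅ L.cycles (n + 1) :=
      (KernelFork.mapIsLimit _ (K.cyclesIsKernel (n + 1) (n + 2) (by simp)) T).conePointUniqueUpToIso
        (L.cyclesIsKernel (n + 1) (n + 2) (by simp))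
    have hκ : κ.hom ≫ L.iCycles (n + 1) = T.map (K.iCycles (n + 1)) :=
      IsLimit.conePointUniqueUpToIso_hom_comp _ _ WalkingParallelPair.zero
    have hκ' : T.map (K.toCycles n (n + 1)) ≫ κ.hom = L.toCycles n (n + 1) := by
      rw [← cancel_mono (L.iCycles (n + 1)), Category.assoc, hκ, ← T.map_comp, K.toCycles_i, L.toCycles_i]
      rfl
    have e3 : cokernel (T.map (K.toCycles n (n + 1))) ≅ L.homology (n + 1) :=
      cokernel.mapIso _ _ (Iso.refl _) κ (hκ'.trans (Category.id_comp _).symm) ≪≫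
        (colimit.isColimit (parallelPair (L.toCycles n (n + 1)) 0)).coconePointUniqueUpToIso
          (L.homologyIsCokernel n (n + 1) (by simp))
    obtain ⟨e4⟩ := hdim n 0
    exact ⟨R.isoRightDerivedObj T (n + 1) ≪≫ e3.symm ≪≫ e2.symm ≪≫ e1.symm ≪≫
      eqToIso (by rw [Nat.zero_add]) ≪≫ e4.symm ≪≫ (X.F (n + 1)).mapIso h0⟩

end Groth.Agent.CosimpLimLib
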