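import Groth.Agent.CosimpLimLib.DeltaIso
import Mathlib

/-!
The alternating coface complex computes the derived functors of the limit of cosimplicial objects.
-/

set_option autoImplicit false
set_option backward.isDefEq.respectTransparency false
set_option backward.isDefEq.respectTransparency.types false
set_option linter.unusedSectionVars false
set_option linter.style.haveILetI false

universe v u

open CategoryTheory CategoryTheory.Limits HomologicalComplex Opposite AlgebraicTopology Simplicial

namespace Groth.Agent.CosimpLimLib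

variable (A : Type u) [Category.{v} A] [Abelian A]

/-- The alternating coface complex. -/
noncomputable abbrev G : (SimplexCategory ⥤ A) ⥤ CochainComplex A ℕ := alternatingCofaceMapComplex A

instance : (G A).PreservesZeroMorphisms where
  map_zero F F' := by
    ext n
    rfl

variable {A}

theorem shortExact_G {S : ShortComplex (SimplexCategory ⥤ A)} (hS : S.ShortExact) : (S.map (G A)).ShortExact :=
  HomologicalComplex.shortExact_of_degreewise_shortExact _ fun n =>
    hS.map_of_exact ((evaluation SimplexCategory A).obj ⦋n⦌)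

variable (A) in
/-- Cohomology of the alternating coface complex as a delta functor. -/
noncomputable def delta : LocCohLib.DeltaFun (SimplexCategory ⥤ A) A where
  F i := G A ⋙ HomologicalComplex.homologyFunctor _ _ i
  preservesZero i := inferInstance
  δ hS i := (shortExact_G hS).δ i (i + 1) (by simp)
  δ_natural hS hS' φ i := HomologicalComplex.HomologySequence.δ_naturality
    ((G A).mapShortComplex.map φ) (shortExact_G hS) (shortExact_G hS') _ _ (by simp)
  map_comp_δ hS i := (shortExact_G hS).comp_δ _ _ (by simp)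
  δ_comp_map hS i := (shortExact_G hS).δ_comp _ _ (by simp)
  exact₁ hS i := (shortExact_G hS).homology_exact₁ _ _ (by simp)
  exact₂ hS i := (shortExact_G hS).homology_exact₂ _
  exact₃ hS i := (shortExact_G hS).homology_exact₃ _ _ (by simp)
  mono₀ {S} hS := by
    haveI := (shortExact_G hS).mono_f
    haveI : Mono (((G A).map S.f).f 0) := inferInstanceAs (Mono ((S.map (G A)).f.f 0))
    haveI : Mono (HomologicalComplex.cyclesMap ((G A).map S.f) 0) := by
      haveI : Mono (HomologicalComplex.cyclesMap ((G A).map S.f) 0 ≫ ((G A).obj S.X₂).iCycles 0) := by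
        rw [HomologicalComplex.cyclesMap_i]
        infer_instance
      exact mono_of_mono _ (((G A).obj S.X₂).iCycles 0)
    haveI : IsIso (((G A).obj S.X₁).homologyπ 0) := CochainComplex.isIso_homologyπ₀ _
    haveI : IsIso (((G A).obj S.X₂).homologyπ 0) := CochainComplex.isIso_homologyπ₀ _
    show Mono (HomologicalComplex.homologyMap ((G A).map S.f) 0)
    have e : HomologicalComplex.homologyMap ((G A).map S.f) 0 = inv (((G A).obj S.X₁).homologyπ 0) ≫
        HomologicalComplex.cyclesMap ((G A).map S.f) 0 ≫ ((G A).obj S.X₂).homologyπ 0 := by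
      rw [IsIso.eq_inv_comp, HomologicalComplex.homologyπ_naturality]
    rw [e]
    infer_instance

theorem G_d (F : SimplexCategory ⥤ A) (n : ℕ) : ((G A).obj F).d n (n + 1) =
    ∑ i : Fin (n + 2), (-1 : ℤ) ^ (i : ℕ) • CosimplicialObject.δ F i :=
  CochainComplex.of_d (fun n => F.obj ⦋n⦌) _ n

section Test

variable [HasCoproducts.{0} A] (T : A)

/-- The simplices. -/
abbrev simp' : SimplexCategory ⥤ SimplexCategoryᵒᵖ ⥤ Type := uliftYoneda.{0}

/-- The copowers of `T` by the standard simplices. -/
noncomputable abbrev copow : SimplicialObject (SimplexCategory ⥤ A) :=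
  (simp' ⋙ (Functor.whiskeringRight SimplexCategoryᵒᵖ Type A).obj (sigmaConst.obj T)).flip

/-- The test complex. -/
noncomputable abbrev testCx : ChainComplex (SimplexCategory ⥤ A) ℕ :=
  (alternatingFaceMapComplex (SimplexCategory ⥤ A)).obj (copow T)

theorem exactAt_testCx (n : ℕ) : (testCx T).ExactAt (n + 1) := by
  rw [exactAt_iff_isZero_homology]
  refine Functor.isZero _ fun k => ?_
  let ev := (evaluation SimplexCategory A).obj k
  refine IsZero.of_iso ?_ (((testCx T).sc (n + 1)).mapHomologyIso ev).symm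
  change IsZero (((ev.mapHomologicalComplex (ComplexShape.down ℕ)).obj (testCx T)).homology (n + 1))
  rw [← exactAt_iff_isZero_homology]
  let Y : SimplicialObject.Augmented A :=
    ((SimplicialObject.Augmented.whiskering _ _).obj (sigmaConst.obj T)).obj
      (SSet.Augmented.stdSimplex.{0}.obj k)
  obtain ⟨ed⟩ := SSet.Augmented.StandardSimplex.nonempty_extraDegeneracy_stdSimplex.{0} k
  have ed' : SimplicialObject.Augmented.ExtraDegeneracy Y := ed.map (sigmaConst.obj T)
  let h := ed'.homotopyEquiv
  have he : (AlternatingFaceMapComplex.obj (SimplicialObject.Augmented.drop.obj Y)).ExactAt (n + 1) := by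
    haveI : QuasiIso h.hom := inferInstance
    rw [exactAt_iff_of_quasiIsoAt h.hom (n + 1)]
    exact exactAt_single_obj _ _ _ _ (Nat.succ_ne_zero n)
  exact he.of_iso (eqToIso (Functor.congr_obj (map_alternatingFaceMapComplex ev) (copow T))).symm

variable {T}

/-- The canonical component. -/
noncomputable def top (n : ℕ) : T ⟶ ((testCx T).X n).obj ⦋n⦌ :=
  Sigma.ι (fun _ : ((simp'.obj ⦋n⦌).obj (op ⦋n⦌)) => T) (ULift.up (𝟙 ⦋n⦌))

theorem top_map (n : ℕ) (k : SimplexCategory) (φ : ⦋n⦌ ⟶ k) :
    top (T := T) n ≫ ((testCx T).X n).map φ =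
      Sigma.ι (fun _ : ((simp'.obj k).obj (op ⦋n⦌)) => T) (ULift.up φ) := by
  simp [top, copow]

theorem top_δ (n : ℕ) (i : Fin (n + 2)) :
    top (T := T) (n + 1) ≫ ((copow T).δ i).app ⦋n + 1⦌ =
      top n ≫ ((testCx T).X n).map (SimplexCategory.δ i) := by
  simp [top, copow, SimplicialObject.δ]

theorem bijective_top (n : ℕ) (F : SimplexCategory ⥤ A) :
    Function.Bijective (fun x : (testCx T).X n ⟶ F => top (T := T) n ≫ x.app ⦋n⦌) := by
  refine ⟨fun x x' h => ?_, fun z => ?_⟩
  · refine NatTrans.ext (funext fun k => Sigma.hom_ext _ _ fun φ => ?_)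
    obtain ⟨φ⟩ := φ
    refine ((congrArg (· ≫ x.app k) (top_map n k φ)).symm.trans ?_).trans
      (congrArg (· ≫ x'.app k) (top_map n k φ))
    rw [Category.assoc, Category.assoc, x.naturality, x'.naturality]
    exact (Category.assoc _ _ _).symm.trans ((congrArg (· ≫ F.map φ) h).trans (Category.assoc _ _ _))
  · refine ⟨{ app := fun k => Sigma.desc fun φ => z ≫ F.map φ.down
              naturality := fun k k' g => Sigma.hom_ext _ _ fun φ => ?_ }, ?_⟩
    · simp [copow]
    · refine (Sigma.ι_desc _ _).trans ?_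
      exact (congrArg (z ≫ ·) (F.map_id _)).trans (Category.comp_id z)

theorem top_d (n : ℕ) (F : SimplexCategory ⥤ A) (x : (testCx T).X n ⟶ F) :
    top (T := T) (n + 1) ≫ ((testCx T).d (n + 1) n ≫ x).app ⦋n + 1⦌ =
      (top (T := T) n ≫ x.app ⦋n⦌) ≫ ((G A).obj F).d n (n + 1) := by
  rw [G_d, show (testCx T).d (n + 1) n = ∑ i : Fin (n + 2), (-1 : ℤ) ^ (i : ℕ) • (copow T).δ i from
    AlternatingFaceMapComplex.obj_d_eq _ n, Preadditive.sum_comp, Preadditive.comp_sum]
  rw [NatTrans.app_sum, Preadditive.comp_sum]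
  refine Finset.sum_congr rfl fun i _ => ?_
  rw [Preadditive.zsmul_comp, NatTrans.app_zsmul, Preadditive.comp_zsmul, Preadditive.comp_zsmul]
  congr 1
  refine (Category.assoc _ _ _).symm.trans ((congrArg (· ≫ _) (top_δ n i)).trans ?_)
  refine (Category.assoc _ _ _).trans ((congrArg (_ ≫ ·) (x.naturality (SimplexCategory.δ i))).trans ?_)
  exact (Category.assoc _ _ _).symm

end Test

theorem effaceable [HasCoproducts.{0} A] : (delta A).Effaceable := by
  intro E hE n
  show IsZero (((G A).obj E).homology (n + 1))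
  rw [← exactAt_iff_isZero_homology, exactAt_iff' _ n (n + 1) (n + 2) (by simp) (by simp),
    ShortComplex.exact_iff_exact_up_to_refinements]
  intro T z hz
  obtain ⟨x, hx⟩ := (bijective_top (T := T) (n + 1) E).2 z
  dsimp only at hx
  have hx0 : (testCx T).d (n + 2) (n + 1) ≫ x = 0 := by
    apply (bijective_top (T := T) (n + 2) E).1
    refine (top_d (n + 1) E x).trans ((congrArg (· ≫ _) hx).trans (hz.trans ?_))
    simp
  have hex := (exactAt_iff' (testCx T) (n + 2) (n + 1) n (by simp) (by simp)).1 (exactAt_testCx T n)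
  refine ⟨T, 𝟙 T, inferInstance, top n ≫ (hex.descToInjective x hx0).app ⦋n⦌, ?_⟩
  refine (Category.id_comp z).trans (hx.symm.trans ?_)
  refine (congrArg (fun m : (testCx T).X (n + 1) ⟶ E => top (n + 1) ≫ m.app ⦋n + 1⦌)
    (hex.comp_descToInjective x hx0)).symm.trans ?_
  exact top_d n E _

section Zero

variable [HasLimitsOfShape SimplexCategory A]

theorem π_d (F : SimplexCategory ⥤ A) : limit.π F ⦋0⦌ ≫ ((G A).obj F).d 0 1 = 0 := by
  rw [G_d, Preadditive.comp_sum, Fin.sum_univ_two]
  have e : ∀ i : Fin 2, limit.π F ⦋0⦌ ≫ CosimplicialObject.δ F i = limit.π F ⦋1⦌ := fun i =>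
    limit.w F (SimplexCategory.δ i)
  rw [Preadditive.comp_zsmul, Preadditive.comp_zsmul, e 0, e 1]
  simp

/-- The comparison map in degree zero. -/
noncomputable def toH0 (F : SimplexCategory ⥤ A) : limit F ⟶ ((G A).obj F).homology 0 :=
  ((G A).obj F).liftCycles (limit.π F ⦋0⦌) 1 (by simp) (π_d F) ≫ ((G A).obj F).homologyπ 0

theorem vertex_eq {Y : A} (F : SimplexCategory ⥤ A) (g : Y ⟶ F.obj ⦋0⦌)
    (hg : g ≫ CosimplicialObject.δ F (0 : Fin 2) = g ≫ CosimplicialObject.δ F (1 : Fin 2))
    {k : SimplexCategory} (a b : ⦋0⦌ ⟶ k) : g ≫ F.map a = g ≫ F.map b := by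
  have key : ∀ (m : ℕ) (i j : Fin (m + 1)), i ≤ j →
      g ≫ F.map (SimplexCategory.const ⦋0⦌ ⦋m⦌ i) = g ≫ F.map (SimplexCategory.const ⦋0⦌ ⦋m⦌ j) := by
    intro m i j hij
    have e1 : SimplexCategory.δ (1 : Fin 2) ≫ SimplexCategory.mkOfLe i j hij =
        SimplexCategory.const ⦋0⦌ ⦋m⦌ i := SimplexCategory.Hom.ext_zero_left _ _ rfl
    have e0 : SimplexCategory.δ (0 : Fin 2) ≫ SimplexCategory.mkOfLe i j hij =
        SimplexCategory.const ⦋0⦌ ⦋m⦌ j := SimplexCategory.Hom.ext_zero_left _ _ rfl
    rw [← e1, ← e0, F.map_comp, F.map_comp, ← Category.assoc, ← Category.assoc]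
    exact congrArg (· ≫ _) hg.symm
  induction k with
  | mk m =>
    rw [SimplexCategory.eq_const_of_zero a, SimplexCategory.eq_const_of_zero b]
    rcases le_total (a.toOrderHom 0) (b.toOrderHom 0) with h | h
    · exact key m _ _ h
    · exact (key m _ _ h).symm

theorem isIso_toH0 (F : SimplexCategory ⥤ A) : IsIso (toH0 F) := by
  let K := (G A).obj F
  let g : K.cycles 0 ⟶ F.obj ⦋0⦌ := K.iCycles 0
  have hg : g ≫ CosimplicialObject.δ F (0 : Fin 2) = g ≫ CosimplicialObject.δ F (1 : Fin 2) := by
    have h : g ≫ ((G A).obj F).d 0 1 = 0 := K.iCycles_d 0 1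
    rw [G_d, Preadditive.comp_sum, Fin.sum_univ_two, Preadditive.comp_zsmul, Preadditive.comp_zsmul] at h
    simpa [← sub_eq_add_neg, sub_eq_zero] using h
  let c : Cone F :=
    { pt := K.cycles 0
      π :=
        { app := fun k => g ≫ F.map (SimplexCategory.const ⦋0⦌ k 0)
          naturality := fun k k' f => by
            simp only [Functor.const_obj_map, Category.id_comp, Category.assoc, ← F.map_comp]
            exact (Category.id_comp _).trans (vertex_eq F g hg _ _) } }
  let l := K.liftCycles (limit.π F ⦋0⦌) 1 (by simp) (π_d F)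
  have hc0 : limit.lift F c ≫ limit.π F ⦋0⦌ = g := by
    rw [limit.lift_π]
    show g ≫ F.map _ = g
    rw [SimplexCategory.const_eq_id, F.map_id, Category.comp_id]
  haveI : IsIso l := by
    refine ⟨limit.lift F c, ?_, ?_⟩
    · refine limit.hom_ext fun k => ?_
      rw [Category.assoc, limit.lift_π, Category.id_comp]
      show l ≫ g ≫ F.map _ = _
      rw [← Category.assoc]
      exact (congrArg (· ≫ _) (K.liftCycles_i _ _ _ _)).trans (limit.w F _)
    · rw [← cancel_mono (K.iCycles 0), Category.assoc, K.liftCycles_i, Category.id_comp]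
      exact hc0
  haveI : IsIso (K.homologyπ 0) := CochainComplex.isIso_homologyπ₀ _
  exact inferInstanceAs (IsIso (l ≫ K.homologyπ 0))

variable (A) in
/-- Degree zero is the limit. -/
noncomputable def zeroIso : (delta A).F 0 ≅ (lim : (SimplexCategory ⥤ A) ⥤ A) :=
  (NatIso.ofComponents (fun F => @asIso _ _ _ _ (toH0 F) (isIso_toH0 F)) (fun {F F'} f => by
    show lim.map f ≫ toH0 F' = toH0 F ≫ HomologicalComplex.homologyMap ((G A).map f) 0
    simp only [toH0, Category.assoc, HomologicalComplex.homologyπ_naturality]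
    rw [← Category.assoc, ← Category.assoc]
    congr 1
    rw [← cancel_mono (((G A).obj F').iCycles 0)]
    simp only [Category.assoc, HomologicalComplex.cyclesMap_i, HomologicalComplex.liftCycles_i,
      HomologicalComplex.liftCycles_i_assoc]
    exact limMap_π f _)).symm

/-- The derived functors of the limit are the cohomology of the alternating coface complex. -/
theorem nonempty_rightDerived_lim_iso [HasCoproducts.{0} A] [EnoughInjectives (SimplexCategory ⥤ A)]
    [(lim : (SimplexCategory ⥤ A) ⥤ A).Additive] (F : SimplexCategory ⥤ A) (n : ℕ) :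
    Nonempty (((lim : (SimplexCategory ⥤ A) ⥤ A).rightDerived n).obj F ≅ ((G A).obj F).homology n) := by
  haveI : PreservesFiniteLimits (lim : (SimplexCategory ⥤ A) ⥤ A) := by
    haveI : PreservesLimitsOfSize.{0, 0} (lim : (SimplexCategory ⥤ A) ⥤ A) :=
      constLimAdj.rightAdjoint_preservesLimits
    exact PreservesLimitsOfSize.preservesFiniteLimits _
  exact nonempty_rightDerived_iso _ (delta A) effaceable (zeroIso A) F n

end Zero

end Groth.Agent.CosimpLimLib
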